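import Cfsg.Agent.Lib.InvChar.CosetCert

/-! Coset enumeration certificate J3X4 for a presented sporadic group. -/

set_option autoImplicit false
set_option maxRecDepth 100000

namespace CfsgLib.InvChar.Coset.J3X4

/-- facts -/
noncomputable def facts : Tr := (.leaf 0x10000700007000006000061000050000500000400004100003000030000020000210000100001000000)
/-- justifications -/
noncomputable def just : Tr := (.leaf 0x1800014000100000c0000800004000000005001006)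
/-- relators -/
def rels : List (List ℕ) := [[0, 0], [1, 1], [2, 2], [3, 3], [4, 4], [1, 0, 1, 0, 1, 0, 1, 0], [2, 0, 2, 1], [3, 2, 3, 2, 3, 2], [3, 2, 0, 2, 3, 0], [3, 2, 1, 2, 3, 1], [0, 2, 3, 4, 0, 2, 3, 4, 0, 2, 3, 4], [0, 2, 3, 4, 1, 0, 1, 0, 4, 3, 2, 0, 1], [0, 2, 3, 4, 1, 4, 3, 2, 0, 1, 0, 1, 0, 1], [2, 3, 4, 2, 3, 4, 2, 3], [3, 2, 0, 2, 3, 4, 2, 3, 4, 3, 2, 0], [0, 2, 3, 4, 2, 0, 2, 3, 4, 2, 0, 2, 3, 4, 2, 0, 2, 3, 4, 2, 0, 2, 3, 4, 2, 0, 2, 3, 4, 2, 0, 2, 3, 4, 2, 0, 2, 3, 4, 2, 0, 2, 3, 4, 2, 0, 2, 3, 4, 2]]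
/-- subgroup words -/
def subs : List (List ℕ) := []
/-- the letters, as letters of the whole group -/
def emb : List ℕ := [3, 4, 6, 7, 8]
/-- certificate -/
noncomputable def cert : Cert := ⟨5, 8, 7, facts, just, rels, subs⟩

end CfsgLib.InvChar.Coset.J3X4
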